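import Mathlib.LinearAlgebra.ExteriorPower.Basis
import Groth.Agent.DRHyp.Wedge

/-!
# The product of exterior powers, and its perfectness in complementary degrees
-/

set_option autoImplicit false

universe u

open exteriorPower Set Set.powersetCard
open Groth.Agent.DRHyp

noncomputable section

namespace Groth.Agent.HodgeSym45

variable {A : Type u} [CommRing A] {M : Type u} [AddCommGroup M] [Module A M] {a b c : ℕ}

theorem mul_mem (h : a + b = c) (x : ↥(⋀[A]^a M)) (y : ↥(⋀[A]^b M)) :
    (x : ExteriorAlgebra A M) * (y : ExteriorAlgebra A M) ∈ ⋀[A]^c M := by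
  subst h
  show (x : ExteriorAlgebra A M) * y ∈ LinearMap.range (ExteriorAlgebra.ι A) ^ (a + b)
  rw [pow_add]
  exact Submodule.mul_mem_mul x.2 y.2

/-- The product of exterior powers. -/
def mulW (h : a + b = c) : ↥(⋀[A]^a M) →ₗ[A] ↥(⋀[A]^b M) →ₗ[A] ↥(⋀[A]^c M) :=
  LinearMap.mk₂ A (fun x y => ⟨_, mul_mem h x y⟩)
    (fun x x' y => Subtype.ext (add_mul (x : ExteriorAlgebra A M) x' y))
    (fun r x y => Subtype.ext (smul_mul_assoc r (x : ExteriorAlgebra A M) (y : ExteriorAlgebra A M)))
    (fun x y y' => Subtype.ext (mul_add (x : ExteriorAlgebra A M) y y'))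
    (fun r x y => Subtype.ext (mul_smul_comm r (x : ExteriorAlgebra A M) (y : ExteriorAlgebra A M)))

theorem coe_mulW (h : a + b = c) (x : ↥(⋀[A]^a M)) (y : ↥(⋀[A]^b M)) :
    ((mulW h x y : ↥(⋀[A]^c M)) : ExteriorAlgebra A M) = (x : ExteriorAlgebra A M) * y := rfl

theorem mulW_ιMulti (h : a + b = c) (v : Fin a → M) (w : Fin b → M) :
    mulW h (ιMulti A a v) (ιMulti A b w) = ιMulti A c (Fin.append v w ∘ Fin.cast h.symm) := by
  subst h
  refine Subtype.ext ?_
  rw [coe_mulW, ιMulti_apply_coe, ιMulti_apply_coe, ιMulti_apply_coe, ExteriorAlgebra.ιMulti_mul_ιMulti]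
  rfl

/-- The product commutes with semilinear maps given on products of vectors. -/
theorem map_mulW {B : Type u} [CommRing B] {N : Type u} [AddCommGroup N] [Module B N] (σ : A →+* B)
    (f : M → N) (h : a + b = c)
    {Fa : ↥(⋀[A]^a M) → ↥(⋀[B]^a N)} {Fb : ↥(⋀[A]^b M) → ↥(⋀[B]^b N)} {Fc : ↥(⋀[A]^c M) → ↥(⋀[B]^c N)}
    (hFa : ∀ x y, Fa (x + y) = Fa x + Fa y) (hFa' : ∀ (r : A) x, Fa (r • x) = σ r • Fa x)
    (hva : ∀ v, Fa (ιMulti A a v) = ιMulti B a fun i => f (v i))
    (hFb : ∀ x y, Fb (x + y) = Fb x + Fb y) (hFb' : ∀ (r : A) x, Fb (r • x) = σ r • Fb x)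
    (hvb : ∀ v, Fb (ιMulti A b v) = ιMulti B b fun i => f (v i))
    (hFc : ∀ x y, Fc (x + y) = Fc x + Fc y) (hFc' : ∀ (r : A) x, Fc (r • x) = σ r • Fc x)
    (hvc : ∀ v, Fc (ιMulti A c v) = ιMulti B c fun i => f (v i))
    (x : ↥(⋀[A]^a M)) (y : ↥(⋀[A]^b M)) : Fc (mulW h x y) = mulW h (Fa x) (Fb y) := by
  have z : ∀ {F : Type u} [AddCommGroup F] (g : F → ↥(⋀[B]^c N)), (∀ p q, g (p + q) = g p + g q) → g 0 = 0 :=
    fun g hg => by simpa using hg 0 0
  induction x using Wedge.induct with
  | h0 =>
    have : Fa 0 = 0 := by simpa using hFa 0 0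
    simp only [map_zero, LinearMap.zero_apply, this]
    exact z Fc hFc
  | hadd x x' hx hx' => simp only [map_add, LinearMap.add_apply, hFc, hFa, hx, hx']
  | hgen r v =>
    induction y using Wedge.induct with
    | h0 =>
      have : Fb 0 = 0 := by simpa using hFb 0 0
      simp only [map_zero, this]
      exact z Fc hFc
    | hadd y y' hy hy' => simp only [map_add, hFc, hFb, hy, hy']
    | hgen s w =>
      simp only [map_smul, LinearMap.smul_apply, mulW_ιMulti, hFc', hFa', hFb', hva, hvb, hvc]
      congr 3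
      ext i
      simp only [Function.comp]
      induction Fin.cast h.symm i using Fin.addCases <;> simp

section Perfect

variable {n : ℕ} (β : Module.Basis (Fin n) A M) (h : a + b = n)

/-- The complement. -/
def co : powersetCard (Fin n) a ≃ powersetCard (Fin n) b :=
  powersetCard.compl (by simp; omega)

/-- The top wedge of the basis. -/
def top' : powersetCard (Fin n) n := ⟨Finset.univ, by simp⟩

theorem top'_unique (s : powersetCard (Fin n) n) : s = top' :=
  Subtype.ext (Finset.eq_univ_of_card _ (by simp))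

theorem exists_unit (s : powersetCard (Fin n) a) : ∃ ε : ℤˣ, ∀ t : powersetCard (Fin n) b,
    mulW h (β.exteriorPower a s) (β.exteriorPower b t) =
      if t = co h s then ((ε : ℤ) : A) • β.exteriorPower n top' else 0 := by
  classical
  subst h
  have hd : Disjoint s.val (co (rfl : a + b = a + b) s).val := by
    rw [co, powersetCard.coe_compl]
    exact disjoint_compl_right
  refine ⟨Equiv.Perm.sign (permOfDisjoint hd), fun t => ?_⟩
  rw [basis_apply, basis_apply, basis_apply]
  refine Subtype.ext ?_
  rw [coe_mulW]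
  by_cases ht : t = co (rfl : a + b = a + b) s
  · subst ht
    rw [if_pos rfl, Submodule.coe_smul]
    refine ((ExteriorAlgebra.ιMulti_family_mul_of_disjoint A β s _ hd).trans ?_)
    rw [top'_unique (disjUnion hd), Units.smul_def, ← Int.cast_smul_eq_zsmul A]
    rfl
  · rw [if_neg ht, Submodule.coe_zero]
    refine ExteriorAlgebra.ιMulti_family_mul_of_not_disjoint A β s t fun hst => ht (Subtype.ext ?_)
    refine Finset.eq_of_subset_of_card_le (fun i hi => ?_) ?_
    · rw [co, powersetCard.coe_compl, Finset.mem_compl]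
      exact fun hs => Finset.disjoint_left.1 hst hs hi
    · rw [powersetCard.card_eq, powersetCard.card_eq]

include β in
/-- Perfectness. -/
theorem bijective_mulW : Function.Bijective (mulW h : ↥(⋀[A]^a M) →ₗ[A] ↥(⋀[A]^b M) →ₗ[A] ↥(⋀[A]^n M)) := by
  classical
  choose ε hε using exists_unit β h
  let u : powersetCard (Fin n) a → A := fun s => ((ε s : ℤ) : A)
  have hu : ∀ s, u s * u s = 1 := fun s => by
    show ((ε s : ℤ) : A) * ((ε s : ℤ) : A) = 1
    rw [← Int.cast_mul, ← Units.val_mul, Int.units_mul_self, Units.val_one, Int.cast_one]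
  have key : ∀ (x : ↥(⋀[A]^a M)) (s : powersetCard (Fin n) a),
      (β.exteriorPower n).repr (mulW h x (β.exteriorPower b (co h s))) top' =
        u s * (β.exteriorPower a).repr x s := by
    intro x s
    conv_lhs => rw [← (β.exteriorPower a).sum_repr x]
    rw [map_sum, LinearMap.sum_apply, map_sum, Finsupp.finsetSum_apply, Finset.sum_eq_single s]
    · rw [map_smul, LinearMap.smul_apply, hε, if_pos rfl, map_smul, map_smul, Finsupp.smul_apply,
        Finsupp.smul_apply, Module.Basis.repr_self, Finsupp.single_eq_same, smul_eq_mul, smul_eq_mul, mul_one]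
      exact mul_comm _ _
    · intro t _ hts
      rw [map_smul, LinearMap.smul_apply, hε, if_neg fun he => hts ((co h).injective he).symm, smul_zero,
        map_zero, Finsupp.zero_apply]
    · exact fun hs => absurd (Finset.mem_univ s) hs
  refine ⟨fun x y hxy => (β.exteriorPower a).ext_elem fun s => ?_, fun f => ?_⟩
  · have := key y s
    rw [← hxy, key x s] at this
    calc (β.exteriorPower a).repr x s = u s * (u s * (β.exteriorPower a).repr x s) := by rw [← mul_assoc, hu, one_mul]
      _ = u s * (u s * (β.exteriorPower a).repr y s) := by rw [this]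
      _ = (β.exteriorPower a).repr y s := by rw [← mul_assoc, hu, one_mul]
  · refine ⟨∑ s, (u s * (β.exteriorPower n).repr (f (β.exteriorPower b (co h s))) top') • β.exteriorPower a s,
      (β.exteriorPower b).ext fun t => (β.exteriorPower n).ext_elem fun r => ?_⟩
    obtain ⟨s, rfl⟩ := (co h).surjective t
    rw [top'_unique r, key, Module.Basis.repr_sum_self, ← mul_assoc, hu, one_mul]

end Perfect

end Groth.Agent.HodgeSym45
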