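import Groth.Agent.HodgeSym45.Pair
import Groth.Agent.HodgeLef45.Smooth
import Groth.Agent.CanonDual.TopDiff
import Groth.Agent.OmegaTop.Duality
import Groth.Agent.ConsPropLib.FibreLocFree

/-!
# Hodge symmetry by Serre duality
-/

set_option autoImplicit false
set_option linter.style.haveILetI false
set_option backward.isDefEq.respectTransparency false
set_option backward.isDefEq.respectTransparency.types false

universe u

open CategoryTheory CategoryTheory.Limits AlgebraicGeometry Opposite TopologicalSpace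
open Groth.Agent.DRHyp Groth.Agent.DRHyp.Hyp

noncomputable section

namespace Groth.Agent.HodgeSym45

/-- `Λ^a E ≅ Hom(Λ^b E, Λ^n E)` for `E` locally free of rank `n = a + b`. -/
theorem nonempty_iso_hom_of_isExtPow {X : Scheme.{u}} {E A B T : X.Modules} {a b n : ℕ} (hab : a + b = n)
    (hE : FlatMod.IsFinLocFreeOfRank n E) (hA : ExtPow.IsExtPow a E A) (hB : ExtPow.IsExtPow b E B)
    (hT : ExtPow.IsExtPow n E T) : Nonempty (A ≅ (SheafHomX.hom B).obj T) := by
  obtain ⟨Pa, rfl⟩ := exists_pow hA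
  obtain ⟨Pb, rfl⟩ := exists_pow hB
  obtain ⟨Pn, rfl⟩ := exists_pow hT
  exact nonempty_iso_hom Pa Pb Pn hab hE

/-- `h^q(Ω^p) = h^{n-q}(Ω^{n-p})`. -/
theorem finrank_symm (k : Type u) [Field k] [IsAlgClosed k] (n N : ℕ) {X : Scheme.{u}}
    [X.Over (Spec (CommRingCat.of k))] [IsIntegral X] [SmoothOfRelativeDimension n (X ↘ Spec (CommRingCat.of k))]
    (ι : X ⟶ CohB1.ProjSpace N k) [IsClosedImmersion ι]
    (hι : ι ≫ CohB1.ProjSpace.toSpec N k = X ↘ Spec (CommRingCat.of k))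
    (p q : ℕ) (hp : p ≤ n) (hq : q ≤ n) (L L' : X.Modules)
    (hL : ExtPow.IsExtPow p (Omega.sheaf (X ↘ Spec (CommRingCat.of k))) L)
    (hL' : ExtPow.IsExtPow (n - p) (Omega.sheaf (X ↘ Spec (CommRingCat.of k))) L') :
    Module.finrank k (Coh.HH X L q) = Module.finrank k (Coh.HH X L' (n - q)) := by
  haveI : Smooth (X ↘ Spec (CommRingCat.of k)) := SmoothOfRelativeDimension.smooth n _
  haveI := PnCoh.Chow.isProper_toSpec N k
  haveI : IsProper (X ↘ Spec (CommRingCat.of k)) := hι ▸ inferInstance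
  have hΩ := CanonDual.isFinLocFreeOfRank_omega (X ↘ Spec (CommRingCat.of k)) n
  obtain ⟨T, hT⟩ := ExtSheaf.exists_isExtPow hΩ.2 n
  obtain ⟨e⟩ := nonempty_iso_hom_of_isExtPow (show (n - p) + p = n by omega) hΩ.1 hL' hL hT
  obtain ⟨w⟩ := HodgeLef45.iso_of_isExtPow
    (ExtSheaf.isExtPow_mod (isQCoh_omega (X ↘ Spec (CommRingCat.of k))) p) hL
  have hfree : FlatMod.IsFinLocFree L :=
    (ConsPropLib.isFinLocFree_iso w).1 (HodgeLef45.isFinLocFree_OmX (X ↘ Spec (CommRingCat.of k)) p)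
  obtain ⟨d⟩ := OmegaTop.nonempty_serre_duality n ι hι hT hfree q hq
  have h := (d ≪≫ₗ OmegaTop.HHequiv e.symm (n - q)).finrank_eq
  rwa [Subspace.dual_finrank_eq] at h

end Groth.Agent.HodgeSym45
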