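import Groth.Agent.HodgeSym45.Alg
import Groth.Agent.DRHyp.ExtSheaf
import Groth.Agent.HodgeLef45.ExtIso
import Groth.Agent.H23.TensorDesc
import Groth.Agent.H23.Frame
import Groth.Agent.SheafHomX.Smul

/-!
# The pairing of exterior powers in complementary degrees
-/

set_option autoImplicit false
set_option linter.style.haveILetI false
set_option backward.isDefEq.respectTransparency false
set_option backward.isDefEq.respectTransparency.types false
set_option maxHeartbeats 1000000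

universe u

open CategoryTheory CategoryTheory.Limits AlgebraicGeometry Opposite TopologicalSpace exteriorPower
open Groth.Agent.LogModGeo (rs rf rs_rs rf_rf rs_refl rf_refl rs_smul app_rs eq_of_locally exists_glue exists_affine_nhd)
open Groth.Agent.DRHyp

noncomputable section

namespace Groth.Agent.HodgeSym45

variable {X : Scheme.{u}}

/-- An exterior power, with its structure. -/
structure Pow (E : X.Modules) (p : ℕ) where
  /-- the module -/
  L : X.Modules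
  /-- the comparison on affines -/
  φ : ∀ U : X.affineOpens, Γ(L, U.1) ≃ₗ[Γ(X, U.1)] ExtSheaf.T E p U.1
  hφ : ∀ (U V : X.affineOpens) (h : V.1 ≤ U.1) (e : Fin p → Γ(E, U.1)),
    rs L h ((φ U).symm (ιMulti _ p e)) = (φ V).symm (ιMulti _ p fun i => rs E h (e i))

theorem exists_pow {E L : X.Modules} {p : ℕ} (h : ExtPow.IsExtPow p E L) : ∃ P : Pow E p, P.L = L := by
  obtain ⟨φ, hφ⟩ := h
  exact ⟨⟨L, φ, hφ⟩, rfl⟩

variable {E : X.Modules} {p : ℕ}

theorem Pow.nat (P : Pow E p) (U V : X.affineOpens) (h : V.1 ≤ U.1) (x : Γ(P.L, U.1)) :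
    P.φ V (rs P.L h x) = ExtSheaf.r E p h (P.φ U x) := by
  obtain ⟨z, rfl⟩ := (P.φ U).symm.surjective x
  rw [LinearEquiv.apply_symm_apply]
  induction z using Wedge.induct with
  | h0 => simp only [map_zero]
  | hadd x y hx hy => simp only [map_add, hx, hy]
  | hgen a v =>
    simp only [LinearEquiv.map_smul, rs_smul, P.hφ U V h v, LinearEquiv.apply_symm_apply, ExtSheaf.r_smul,
      ExtSheaf.r_ιMulti]

variable {a b n : ℕ} (Pa : Pow E a) (Pb : Pow E b) (Pn : Pow E n) (hab : a + b = n)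

/-- The pairing over an affine open. -/
def pairAff (U : X.affineOpens) : Γ(Pa.L, U.1) →ₗ[Γ(X, U.1)] Γ(Pb.L, U.1) →ₗ[Γ(X, U.1)] Γ(Pn.L, U.1) :=
  (((mulW (A := Γ(X, U.1)) (M := Γ(E, U.1)) hab).compl₁₂ (Pa.φ U).toLinearMap (Pb.φ U).toLinearMap)).compr₂
    (Pn.φ U).symm.toLinearMap

theorem pairAff_apply (U : X.affineOpens) (x : Γ(Pa.L, U.1)) (y : Γ(Pb.L, U.1)) :
    pairAff Pa Pb Pn hab U x y = (Pn.φ U).symm (mulW hab (Pa.φ U x) (Pb.φ U y)) := rfl

theorem rs_pairAff (U V : X.affineOpens) (h : V.1 ≤ U.1) (x : Γ(Pa.L, U.1)) (y : Γ(Pb.L, U.1)) :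
    rs Pn.L h (pairAff Pa Pb Pn hab U x y) = pairAff Pa Pb Pn hab V (rs Pa.L h x) (rs Pb.L h y) := by
  apply (Pn.φ V).injective
  rw [Pn.nat U V h, pairAff_apply, pairAff_apply, LinearEquiv.apply_symm_apply, LinearEquiv.apply_symm_apply,
    Pa.nat U V h, Pb.nat U V h]
  exact map_mulW (rf h) (rs E h) hab (map_add _) (ExtSheaf.r_smul E a h) (ExtSheaf.r_ιMulti E a h)
    (map_add _) (ExtSheaf.r_smul E b h) (ExtSheaf.r_ιMulti E b h)
    (map_add _) (ExtSheaf.r_smul E n h) (ExtSheaf.r_ιMulti E n h) _ _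

theorem exists_pairing (U : X.Opens) (x : Γ(Pa.L, U)) (y : Γ(Pb.L, U)) :
    ∃ z : Γ(Pn.L, U), ∀ (V : X.affineOpens) (h : V.1 ≤ U),
      rs Pn.L h z = pairAff Pa Pb Pn hab V (rs Pa.L h x) (rs Pb.L h y) := by
  let ι := {V : X.affineOpens // V.1 ≤ U}
  obtain ⟨z, hz⟩ := exists_glue Pn.L (fun V : ι => V.1.1) (fun V => V.2)
    (fun p hp => by
      obtain ⟨V, hpV, hV⟩ := exists_affine_nhd hp
      exact ⟨⟨V, hV⟩, hpV⟩)
    (fun V => pairAff Pa Pb Pn hab V.1 (rs Pa.L V.2 x) (rs Pb.L V.2 y))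
    (fun V V' => eq_of_locally Pn.L _ _ fun p hp => by
      obtain ⟨W, hpW, hW⟩ := exists_affine_nhd hp
      refine ⟨W.1, hW, hpW, ?_⟩
      rw [rs_rs, rs_rs, rs_pairAff Pa Pb Pn hab V.1 W (hW.trans inf_le_left),
        rs_pairAff Pa Pb Pn hab V'.1 W (hW.trans inf_le_right), rs_rs, rs_rs, rs_rs, rs_rs])
  exact ⟨z, fun V h => hz ⟨V, h⟩⟩

/-- The pairing. -/
def pairing (U : X.Opens) (x : Γ(Pa.L, U)) (y : Γ(Pb.L, U)) : Γ(Pn.L, U) :=
  (exists_pairing Pa Pb Pn hab U x y).choose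

theorem pairing_spec (U : X.Opens) (x : Γ(Pa.L, U)) (y : Γ(Pb.L, U)) (V : X.affineOpens) (h : V.1 ≤ U) :
    rs Pn.L h (pairing Pa Pb Pn hab U x y) = pairAff Pa Pb Pn hab V (rs Pa.L h x) (rs Pb.L h y) :=
  (exists_pairing Pa Pb Pn hab U x y).choose_spec V h

theorem pairing_affine (V : X.affineOpens) (x : Γ(Pa.L, V.1)) (y : Γ(Pb.L, V.1)) :
    pairing Pa Pb Pn hab V.1 x y = pairAff Pa Pb Pn hab V x y := by
  have := pairing_spec Pa Pb Pn hab V.1 x y V le_rfl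
  rwa [rs_refl, rs_refl, rs_refl] at this

theorem pairing_ext {U : X.Opens} {s t : Γ(Pn.L, U)}
    (h : ∀ (V : X.affineOpens) (hV : V.1 ≤ U), rs Pn.L hV s = rs Pn.L hV t) : s = t :=
  eq_of_locally Pn.L _ _ fun p hp => by
    obtain ⟨V, hpV, hV⟩ := exists_affine_nhd hp
    exact ⟨V.1, hV, hpV, h V hV⟩

/-- The pairing, as a natural family of bilinear maps. -/
def bilin : H23.TensorDesc.Bilin Pa.L Pb.L Pn.L where
  b := pairing Pa Pb Pn hab
  add_left U m m' k := pairing_ext Pn fun V hV => by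
    simp only [map_add, pairing_spec, LinearMap.add_apply]
  smul_left U r m k := pairing_ext Pn fun V hV => by
    simp only [rs_smul, pairing_spec, map_smul, LinearMap.smul_apply]
  add_right U m k k' := pairing_ext Pn fun V hV => by
    simp only [map_add, pairing_spec]
  smul_right U r m k := pairing_ext Pn fun V hV => by
    simp only [rs_smul, pairing_spec, map_smul]
  res {U V} h m k := pairing_ext Pn fun W hW => by
    show rs Pn.L hW (rs Pn.L h _) = rs Pn.L hW (pairing Pa Pb Pn hab V (rs Pa.L h m) (rs Pb.L h k))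
    rw [rs_rs, pairing_spec, pairing_spec, rs_rs, rs_rs]

/-- The pairing morphism. -/
def Φ : (SheafHomX.ten Pb.L).obj Pa.L ⟶ Pn.L := H23.TensorDesc.desc (bilin Pa Pb Pn hab)

theorem Φ_tmS (U : X.Opens) (x : Γ(Pa.L, U)) (y : Γ(Pb.L, U)) :
    (Φ Pa Pb Pn hab).app U (QCoh.tmS Pa.L Pb.L x y) = pairing Pa Pb Pn hab U x y :=
  H23.TensorDesc.desc_tmul (bilin Pa Pb Pn hab) U x y

theorem map_Φ_tmS {Z : X.Modules} (g : Z ⟶ Pa.L) (U : X.Opens) (z : Γ(Z, U)) (y : Γ(Pb.L, U)) :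
    ((SheafHomX.ten Pb.L).map g ≫ Φ Pa Pb Pn hab).app U (QCoh.tmS Z Pb.L z y) =
      pairing Pa Pb Pn hab U (g.app U z) y := by
  have h1 : ((SheafHomX.ten Pb.L).map g).app U (QCoh.tmS Z Pb.L z y) =
      QCoh.tmS Pa.L Pb.L (g.app U z) y :=
    KFlatLib.tmSh_naturality_left g Pb.L (U := U) z y
  refine Eq.trans ?_ (Φ_tmS Pa Pb Pn hab U _ y)
  exact congrArg ((Φ Pa Pb Pn hab).app U) h1

/-- The opens on which the pairing is perfect. -/
def Good (n : ℕ) (E : X.Modules) (V : X.Opens) : Prop :=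
  IsAffineOpen V ∧ ∃ s : Fin n → Γ(E, V), H23.Frame.IsFrame E s

theorem isBase_good (hE : FlatMod.IsFinLocFreeOfRank n E) : Hyp.IsBase (Good (X := X) n E) := by
  intro U x hx
  obtain ⟨U₀, hxU₀, ⟨e⟩⟩ := hE x
  obtain ⟨s, hs⟩ := H23.Frame.exists_frame e
  obtain ⟨V, hxV, hV⟩ := exists_affine_nhd (show x ∈ U ⊓ U₀ from ⟨hx, hxU₀⟩)
  exact ⟨V.1, ⟨V.2, _, hs.res (hV.trans inf_le_right)⟩, hV.trans inf_le_left, hxV⟩

/-- The basis of a frame. -/
def frameBasis {U : X.Opens} {s : Fin n → Γ(E, U)} (hs : H23.Frame.IsFrame E s) (W : X.Opens) (h : W ≤ U) :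
    Module.Basis (Fin n) Γ(X, W) Γ(E, W) :=
  Module.Basis.ofEquivFun (LinearEquiv.ofBijective
    (Fintype.linearCombination Γ(X, W) fun i => rs E h (s i)) (hs W h)).symm

theorem frameBasis_apply {U : X.Opens} {s : Fin n → Γ(E, U)} (hs : H23.Frame.IsFrame E s) (W : X.Opens) (h : W ≤ U)
    (i : Fin n) : frameBasis hs W h i = rs E h (s i) := by
  classical
  rw [frameBasis, Module.Basis.coe_ofEquivFun]
  simp only [LinearEquiv.symm_symm, LinearEquiv.ofBijective_apply, Fintype.linearCombination_apply]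
  rw [Finset.sum_eq_single i]
  · rw [Pi.single_eq_same, one_smul]
  · intro j _ hj
    rw [Pi.single_eq_of_ne hj, zero_smul]
  · exact fun hi => absurd (Finset.mem_univ i) hi

theorem bijective_pairAff (V : X.affineOpens) {s : Fin n → Γ(E, V.1)} (hs : H23.Frame.IsFrame E s) :
    Function.Bijective (pairAff Pa Pb Pn hab V) := by
  have hb := bijective_mulW (frameBasis hs V.1 le_rfl) hab
  constructor
  · intro x y h
    apply (Pa.φ V).injective
    refine hb.1 (LinearMap.ext fun z => (Pn.φ V).symm.injective ?_)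
    obtain ⟨w, rfl⟩ := (Pb.φ V).surjective z
    exact LinearMap.congr_fun h w
  · intro f
    obtain ⟨z, hz⟩ := hb.2 ((Pn.φ V).toLinearMap.comp (f.comp (Pb.φ V).symm.toLinearMap))
    refine ⟨(Pa.φ V).symm z, LinearMap.ext fun y => ?_⟩
    rw [pairAff_apply, LinearEquiv.apply_symm_apply, hz]
    simp

/-- The universal property of the pairing. -/
theorem bijective_comp (hE : FlatMod.IsFinLocFreeOfRank n E) (Z : X.Modules) :
    Function.Bijective fun g : Z ⟶ Pa.L => (SheafHomX.ten Pb.L).map g ≫ Φ Pa Pb Pn hab := by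
  refine ⟨fun g g' h => Hyp.hom_ext_of_base (isBase_good hE) fun V hV z => ?_, fun G => ?_⟩
  · obtain ⟨s, hs⟩ := hV.2
    refine (bijective_pairAff Pa Pb Pn hab ⟨V, hV.1⟩ hs).1 (LinearMap.ext fun y => ?_)
    rw [← pairing_affine, ← pairing_affine, ← map_Φ_tmS Pa Pb Pn hab g, ← map_Φ_tmS Pa Pb Pn hab g']
    exact congrArg (fun q : (SheafHomX.ten Pb.L).obj Z ⟶ Pn.L => q.app V (QCoh.tmS Z Pb.L z y)) h
  let fn : ∀ V : X.Opens, Γ(Z, V) →ₗ[Γ(X, V)] Γ(Pb.L, V) →ₗ[Γ(X, V)] Γ(Pn.L, V) := fun V =>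
    LinearMap.mk₂ _ (fun z y => G.app V (QCoh.tmS Z Pb.L z y))
      (fun z z' y => (congrArg _ (QCoh.tmS_add_left Z Pb.L z z' y)).trans (map_add _ _ _))
      (fun r z y => (congrArg _ (QCoh.tmS_smul_left Z Pb.L r z y)).trans (Scheme.Modules.Hom.app_smul G r _))
      (fun z y y' => (congrArg _ (QCoh.tmS_add_right Z Pb.L z y y')).trans (map_add _ _ _))
      (fun r z y => (congrArg _ (QCoh.tmS_smul_right Z Pb.L r z y)).trans (Scheme.Modules.Hom.app_smul G r _))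
  let eq : ∀ V (hV : Good n E V), Γ(Pa.L, V) ≃ₗ[Γ(X, V)] (Γ(Pb.L, V) →ₗ[Γ(X, V)] Γ(Pn.L, V)) := fun V hV =>
    LinearEquiv.ofBijective (pairAff Pa Pb Pn hab ⟨V, hV.1⟩) (bijective_pairAff Pa Pb Pn hab ⟨V, hV.1⟩ hV.2.choose_spec)
  have heq : ∀ V (hV : Good n E V) (z : Γ(Z, V)) (y : Γ(Pb.L, V)),
      pairAff Pa Pb Pn hab ⟨V, hV.1⟩ ((eq V hV).symm (fn V z)) y = G.app V (QCoh.tmS Z Pb.L z y) := fun V hV z y =>
    LinearMap.congr_fun ((eq V hV).apply_symm_apply (fn V z)) y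
  obtain ⟨g, hg⟩ := Hyp.exists_hom_of_base (M := Z) (N := Pa.L) (isBase_good hE)
    (fun V hV => (eq V hV).symm.toLinearMap.comp (fn V)) (by
    intro V W hV hW h z
    apply (eq W hW).injective
    refine Eq.trans ?_ ((eq W hW).apply_symm_apply (fn W (rs Z h z))).symm
    obtain ⟨s, hs⟩ := hV.2
    let V' : X.affineOpens := ⟨V, hV.1⟩
    let W' : X.affineOpens := ⟨W, hW.1⟩
    refine (((frameBasis hs W h).exteriorPower b).map (Pb.φ W').symm).ext fun t => ?_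
    let y₀ : Γ(Pb.L, V) := (Pb.φ V').symm (ιMulti _ b fun i => s (Set.powersetCard.ofFinEmbEquiv.symm t i))
    have hy : ((frameBasis hs W h).exteriorPower b).map (Pb.φ W').symm t = rs Pb.L h y₀ := by
      rw [Module.Basis.map_apply, exteriorPower.basis_apply, Pb.hφ V' W' h]
      exact congrArg (fun v => (Pb.φ W').symm (ιMulti _ b v))
        (funext fun i => frameBasis_apply hs W h _)
    rw [hy]
    show pairAff Pa Pb Pn hab W' (rs Pa.L h ((eq V hV).symm (fn V z))) (rs Pb.L h y₀) =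
      G.app W (QCoh.tmS Z Pb.L (rs Z h z) (rs Pb.L h y₀))
    rw [← rs_pairAff Pa Pb Pn hab V' W' h]
    refine Eq.trans (congrArg (rs Pn.L h) (heq V hV z y₀)) ?_
    refine (app_rs G h _).symm.trans (congrArg (G.app W) ?_)
    exact QCoh.map_tmS Z Pb.L (homOfLE h) z y₀)
  refine ⟨g, SheafHomX.tensor_hom_ext (M := Z) (N := Pb.L) fun U z y => ?_⟩
  refine (map_Φ_tmS Pa Pb Pn hab g U z y).trans ?_
  refine eq_of_locally Pn.L _ _ fun p hp => ?_
  obtain ⟨V, hV, hVU, hpV⟩ := isBase_good hE U p hp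
  refine ⟨V, hVU, hpV, ?_⟩
  rw [pairing_spec Pa Pb Pn hab U _ y ⟨V, hV.1⟩ hVU, ← app_rs g hVU, hg V hV]
  refine (heq V hV _ _).trans ?_
  refine (congrArg (G.app V) ?_).trans (app_rs G hVU _)
  exact (QCoh.map_tmS Z Pb.L (homOfLE hVU) z y).symm

include hab in
/-- The pairing identifies a power with the maps of the complementary one into the top one. -/
theorem nonempty_iso_hom (hE : FlatMod.IsFinLocFreeOfRank n E) :
    Nonempty (Pa.L ≅ (SheafHomX.hom Pb.L).obj Pn.L) := by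
  let adj := SheafHomX.adj Pb.L
  let ψ := adj.homEquiv Pa.L Pn.L (Φ Pa Pb Pn hab)
  have hψ : ∀ Z : X.Modules, Function.Bijective fun g : Z ⟶ Pa.L => g ≫ ψ := fun Z => by
    have e : (fun g : Z ⟶ Pa.L => g ≫ ψ) =
        (adj.homEquiv Z Pn.L) ∘ fun g => (SheafHomX.ten Pb.L).map g ≫ Φ Pa Pb Pn hab :=
      funext fun g => (adj.homEquiv_naturality_left g _).symm
    rw [e]
    exact (adj.homEquiv Z Pn.L).bijective.comp (bijective_comp Pa Pb Pn hab hE Z)
  obtain ⟨i, hi⟩ := (hψ ((SheafHomX.hom Pb.L).obj Pn.L)).2 (𝟙 _)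
  exact ⟨⟨ψ, i, (hψ Pa.L).1 (by
    show (ψ ≫ i) ≫ ψ = 𝟙 Pa.L ≫ ψ
    rw [Category.assoc, show i ≫ ψ = 𝟙 _ from hi, Category.comp_id, Category.id_comp]), hi⟩⟩

end Groth.Agent.HodgeSym45
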